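import Cfsg.Agent.H58.Wreath.SU.Setup
import Cfsg.Agent.H99.TensorU.Generate

/-!
All skew rank one coefficients in the layers give all transvections.
-/

set_option autoImplicit false
set_option linter.unusedSectionVars false

namespace Cfsg.Agent.H58.Wreath.SU

open Matrix
open Cfsg.Agent.H99.Tensor
open Cfsg.Agent.H99.TensorU (sp pv kron_vmv sp_pv_left sp_layers exists_skew exists_trace exists_iso_not_perp exists_iso_not_perp₂ sp_star sp_zero_comm sp_zero_left sp_zero_right sp_add_left sp_add_right sp_smul_left sp_smul_right vmv_mulVec vmv_conj)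
open Cfsg.Agent.H5.C7 (rI slotM)
open scoped Kronecker

variable {F : Type*} [Field F] [StarRing F] [Finite F]

section Two

variable {α : Type} [Fintype α] [DecidableEq α] [Nonempty α] {b : ℕ}

local notation "Ix" => α × Fin b

theorem centre_all_of_full (M : Subgroup (GL (α × Fin b) F))
    (hiso : ∀ y ∈ M, (y : Matrix Ix Ix F) * (y : Matrix Ix Ix F)ᴴ = 1) (hns : ∃ x : F, star x ≠ x) (hb : 3 ≤ b)
    (hfull : ∀ (x : α → F) (d : F), star d = -d → ∀ w : Fin b → F, sp w w = 0 →
      InM M (1 + (d • vecMulVec x (star x)) ⊗ₖ vecMulVec w (star w)))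
    (v : Ix → F) (hv : sp v v = 0) : H99.TensorU.Centre M v := by
  classical
  have hu : ∀ {X : Matrix Ix Ix F}, InM M X → Xᴴ * X = 1 := fun hX => by
    obtain ⟨y, hy, rfl⟩ := hX
    exact mul_eq_one_comm.1 (hiso y hy)
  have hinv : ∀ {X : Matrix Ix Ix F}, InM M X → InM M Xᴴ := fun hX => hX.inv (mul_eq_one_comm.1 (hu hX))
  have hmove : ∀ {v : Ix → F}, H99.TensorU.Centre M v → ∀ {Y : Matrix Ix Ix F}, InM M Y →
      H99.TensorU.Centre M (Y *ᵥ v) := fun {v} hv {Y} hY d hd => by
    have := (hv d hd).conj hY (mul_eq_one_comm.1 (hu hY))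
    rwa [Matrix.mul_smul, Matrix.smul_mul, vmv_conj] at this
  have hP : ∀ (x : α → F) (w : Fin b → F), sp w w = 0 → ∀ d : F, star d = -d →
      InM M (1 + d • vecMulVec (pv x w) (star (pv x w))) := fun x w hw d hd => by
    have := hfull x d hd w hw
    rwa [smul_kronecker, kron_vmv] at this
  let lay : (Ix → F) → α → Fin b → F := fun v i k => v (i, k)
  let supp : (Ix → F) → Finset α := fun v => Finset.univ.filter fun i => lay v i ≠ 0
  obtain ⟨d, hd0, hd⟩ := exists_skew hns
  -- the basic move
  have move : ∀ (v : Ix → F) (i j : α) (w : Fin b → F) (μ : F), sp v v = 0 → i ≠ j → sp w w = 0 →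
      sp w (lay v j) ≠ 0 → ∃ v' : Ix → F, sp v' v' = 0 ∧ (H99.TensorU.Centre M v' → H99.TensorU.Centre M v) ∧
        lay v' i = lay v i + μ • w ∧ ∀ l, l ≠ i → l ≠ j → lay v' l = lay v l := by
    intro v i j w μ hv hij hw hj
    have hd' : d ≠ 0 := hd0
    set l₀ := star ((μ / d - sp w (lay v i)) / sp w (lay v j)) with hl₀
    set x : α → F := Pi.single i 1 + l₀ • Pi.single j 1 with hx
    have hxv : d * sp (pv x w) v = μ := by
      rw [sp_pv_left, Finset.sum_eq_add i j hij
        (fun l _ hl => by simp [hx, Pi.single_eq_of_ne hl.1, Pi.single_eq_of_ne hl.2]) (by simp) (by simp)]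
      simp only [hx, Pi.add_apply, Pi.smul_apply, Pi.single_eq_same, Pi.single_eq_of_ne hij,
        Pi.single_eq_of_ne hij.symm, smul_eq_mul, mul_zero, mul_one, add_zero, zero_add, star_one, one_mul, hl₀,
        star_star]
      change d * (sp w (lay v i) + (μ / d - sp w (lay v i)) / sp w (lay v j) * sp w (lay v j)) = μ
      rw [div_mul_cancel₀ _ hj]
      field_simp
      ring
    have hT := hP x w hw d hd
    set T := 1 + d • vecMulVec (pv x w) (star (pv x w)) with hTdef
    have hTv : T *ᵥ v = v + μ • pv x w := by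
      rw [hTdef, add_mulVec, one_mulVec, smul_mulVec, vmv_mulVec, smul_smul, hxv]
    refine ⟨T *ᵥ v, ?_, fun hc => ?_, ?_, fun l hli hlj => ?_⟩
    · have : sp (T *ᵥ v) (T *ᵥ v) = sp v ((Tᴴ * T) *ᵥ v) := by
        rw [sp, sp, star_mulVec, ← dotProduct_mulVec, mulVec_mulVec]
      rw [this, hu hT, one_mulVec, hv]
    · have := hmove hc (hinv hT)
      rwa [mulVec_mulVec, hu hT, one_mulVec] at this
    · funext k
      change (T *ᵥ v) (i, k) = v (i, k) + μ * w k
      rw [hTv]
      simp [pv, hx, Pi.single_eq_of_ne hij]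
    · funext k
      change (T *ᵥ v) (l, k) = v (l, k)
      rw [hTv]
      simp [pv, hx, Pi.single_eq_of_ne hli, Pi.single_eq_of_ne hlj]
  suffices h : ∀ n v, sp v v = 0 → (supp v).card = n → H99.TensorU.Centre M v from h _ v hv rfl
  intro n
  induction n using Nat.strong_induction_on with
  | _ n ih =>
    intro v hv hn
    rcases Nat.lt_or_ge n 2 with hn1 | hn2
    · -- a single component
      obtain ⟨i0⟩ := ‹Nonempty α›
      obtain ⟨i, hi⟩ : ∃ i, ∀ l, l ≠ i → lay v l = 0 := by
        rcases Nat.eq_zero_or_pos n with h0 | h0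
        · refine ⟨i0, fun l _ => ?_⟩
          by_contra hl
          have : l ∈ supp v := Finset.mem_filter.2 ⟨Finset.mem_univ _, hl⟩
          rw [Finset.card_eq_zero.1 (hn.trans h0)] at this
          simp at this
        · obtain ⟨i, hi⟩ := Finset.card_eq_one.1 (show (supp v).card = 1 by omega)
          refine ⟨i, fun l hl => ?_⟩
          by_contra h
          have : l ∈ supp v := Finset.mem_filter.2 ⟨Finset.mem_univ _, h⟩
          rw [hi, Finset.mem_singleton] at this
          exact hl this
      have hiso : sp (lay v i) (lay v i) = 0 := by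
        rw [sp_layers, Finset.sum_eq_single i (fun l _ hl => by
          change sp (lay v l) (lay v l) = 0
          rw [hi l hl, sp_zero_left]) (by simp)] at hv
        exact hv
      have e : v = pv (Pi.single i 1) (lay v i) := by
        funext ⟨l, k⟩
        by_cases hl : l = i
        · subst hl; simp [pv, lay]
        · have := congrFun (hi l hl) k
          simp [pv, Pi.single_eq_of_ne hl, lay] at this ⊢
          exact this
      rw [e]
      exact fun d hd => hP _ _ hiso d hd
    -- decreasing the support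
    have hdec : ∀ v' : Ix → F, supp v' ⊂ supp v → sp v' v' = 0 → H99.TensorU.Centre M v' := fun v' hs hv' =>
      ih _ (hn ▸ Finset.card_lt_card hs) v' hv' rfl
    have kill : ∀ v : Ix → F, (∀ v' : Ix → F, supp v' ⊂ supp v → sp v' v' = 0 → H99.TensorU.Centre M v') → ∀ i j : α, i ≠ j →
        sp v v = 0 → i ∈ supp v → j ∈ supp v → sp (lay v i) (lay v i) = 0 →
        sp (lay v i) (lay v j) ≠ 0 → H99.TensorU.Centre M v := by
      intro v hdec i j hij hv hi hj hii hwj
      obtain ⟨v', hv', hback, hi', hrest⟩ := move v i j (lay v i) (-1) hv hij hii hwj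
      refine hback (hdec v' (Finset.ssubset_iff_of_subset (fun l hl => ?_) |>.2 ⟨i, hi, fun h => ?_⟩) hv')
      · by_cases hli : l = i
        · rwa [hli]
        by_cases hlj : l = j
        · rwa [hlj]
        simp only [supp, Finset.mem_filter, hrest l hli hlj] at hl ⊢
        exact hl
      · simp [supp, hi'] at h
    have main : ∀ v : Ix → F, (∀ v' : Ix → F, supp v' ⊂ supp v → sp v' v' = 0 → H99.TensorU.Centre M v') → ∀ i j : α, i ≠ j →
        sp v v = 0 → i ∈ supp v → j ∈ supp v → sp (lay v i) (lay v i) = 0 → H99.TensorU.Centre M v := by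
      intro v hdec i j hij hv hi hj hii
      by_cases hwj : sp (lay v i) (lay v j) = 0
      swap
      · exact kill v hdec i j hij hv hi hj hii hwj
      obtain ⟨w, hww, hiw, hjw⟩ := exists_iso_not_perp₂ hns (by rw [Fintype.card_fin]; omega)
        (Finset.mem_filter.1 hi).2 (Finset.mem_filter.1 hj).2
      have hT := hP (Pi.single j 1) w hww d hd
      set T := 1 + d • vecMulVec (pv (Pi.single j 1) w) (star (pv (Pi.single j 1) w)) with hTdef
      have hTv : T *ᵥ v = v + (d * sp w (lay v j)) • pv (Pi.single j 1) w := by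
        rw [hTdef, add_mulVec, one_mulVec, smul_mulVec, vmv_mulVec, smul_smul, sp_pv_left,
          Finset.sum_eq_single j (fun l _ hl => by simp [Pi.single_eq_of_ne hl]) (by simp)]
        simp [lay]
      set v' := T *ᵥ v with hv'def
      have hli : lay v' i = lay v i := by
        funext k
        change (T *ᵥ v) (i, k) = v (i, k)
        rw [← hv'def, hTv]
        simp [pv, Pi.single_eq_of_ne hij]
      have hlj : lay v' j = lay v j + (d * sp w (lay v j)) • w := by
        funext k
        change v' (j, k) = v (j, k) + (d * sp w (lay v j)) * w k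
        rw [hTv]
        simp [pv]
      have hne : sp (lay v' i) (lay v' j) ≠ 0 := by
        rw [hli, hlj, sp_add_right, sp_smul_right, hwj, zero_add]
        exact mul_ne_zero (mul_ne_zero hd0 fun h => hjw (sp_zero_comm.1 h)) hiw
      have hsupp : supp v' = supp v := by
        ext l
        simp only [supp, Finset.mem_filter, Finset.mem_univ, true_and]
        by_cases hlj' : l = j
        · subst hlj'
          exact iff_of_true (fun h => hne (by rw [h, sp_zero_right])) (Finset.mem_filter.1 hj).2
        · have : lay v' l = lay v l := by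
            funext k
            change v' (l, k) = v (l, k)
            rw [hTv]
            simp [pv, Pi.single_eq_of_ne hlj']
          rw [this]
      have hiso : sp v' v' = 0 := by
        have : sp (T *ᵥ v) (T *ᵥ v) = sp v ((Tᴴ * T) *ᵥ v) := by
          rw [sp, sp, star_mulVec, ← dotProduct_mulVec, mulVec_mulVec]
        rw [hv'def, this, hu hT, one_mulVec, hv]
      have hc := kill v' (fun v'' hs => hdec v'' (hsupp ▸ hs)) i j hij hiso (hsupp ▸ hi) (hsupp ▸ hj)
        (hli.symm ▸ hii) hne
      have := hmove hc (hinv hT)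
      rwa [hv'def, mulVec_mulVec, hu hT, one_mulVec] at this
    obtain ⟨i, hi, j, hj, hij⟩ := Finset.one_lt_card.1 (show 1 < (supp v).card by omega)
    by_cases hii : sp (lay v i) (lay v i) = 0
    · exact main v hdec i j hij hv hi hj hii
    obtain ⟨w, hww, hiw, hjw⟩ := exists_iso_not_perp₂ hns (by rw [Fintype.card_fin]; omega)
      (Finset.mem_filter.1 hi).2 (Finset.mem_filter.1 hj).2
    obtain ⟨s, hs⟩ := exists_trace hns (a := -(sp (lay v i) (lay v i))) (by rw [star_neg, sp_star])
    obtain ⟨v', hv', hback, hi', hrest⟩ := move v i j w (s / sp (lay v i) w) hv hij hww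
      (fun h => hjw (sp_zero_comm.1 h))
    refine hback ?_
    have hii' : sp (lay v' i) (lay v' i) = 0 := by
      rw [hi', sp_add_left, sp_add_right, sp_add_right, sp_smul_left, sp_smul_left, sp_smul_right, sp_smul_right, hww]
      have h1 : s / sp (lay v i) w * sp (lay v i) w = s := div_mul_cancel₀ _ hiw
      have h2 : star (s / sp (lay v i) w) * sp w (lay v i) = star s := by rw [← sp_star (lay v i) w, ← star_mul', h1]
      linear_combination hs + h1 + h2
    have hsub : supp v' ⊆ supp v := fun l hl => by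
      by_cases hli : l = i
      · rwa [hli]
      by_cases hlj : l = j
      · rwa [hlj]
      simp only [supp, Finset.mem_filter, hrest l hli hlj] at hl ⊢
      exact hl
    by_cases heq : supp v' = supp v
    · exact main v' (fun v'' hs' => hdec v'' (heq ▸ hs')) i j hij hv' (heq ▸ hi) (heq ▸ hj) hii'
    · exact hdec v' (hsub.ssubset_of_ne heq) hv'

end Two

section Amb

variable {ι : Type} [Fintype ι] [DecidableEq ι] {m : ℕ} {M : Subgroup (GL (ι → Fin m) F)}

theorem Amb.centre_of_full (A : Amb M) (i : ι)
    (hfull : ∀ (x : ({j : ι // j ≠ i} → Fin m) → F) (d : F), star d = -d → ∀ w : Fin m → F, sp w w = 0 →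
      InM (slotM i M) (1 + (d • vecMulVec x (star x)) ⊗ₖ vecMulVec w (star w)))
    (v : (ι → Fin m) → F) (hv : sp v v = 0) : Centre M v := by
  have := A.three
  have : Nonempty ({j : ι // j ≠ i} → Fin m) := ⟨fun _ => ⟨0, by omega⟩⟩
  set u : (({j : ι // j ≠ i} → Fin m) × Fin m) → F := v ∘ (H5.C7.eI i).symm with hu
  have hiso : ∀ y ∈ slotM i M, (y : Matrix (({j : ι // j ≠ i} → Fin m) × Fin m) (({j : ι // j ≠ i} → Fin m) × Fin m) F) *
      (y : Matrix (({j : ι // j ≠ i} → Fin m) × Fin m) (({j : ι // j ≠ i} → Fin m) × Fin m) F)ᴴ = 1 := fun y hy => by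
    obtain ⟨x, hx, e⟩ := H5.C7.inM_slotM.1 (⟨y, hy, rfl⟩ : InM (slotM i M)
      (y : Matrix (({j : ι // j ≠ i} → Fin m) × Fin m) (({j : ι // j ≠ i} → Fin m) × Fin m) F))
    rw [← e, ← rI_conjTranspose, ← map_mul, A.iso x hx, map_one]
  have huu : sp u u = 0 := by
    rw [← hv, sp, sp, hu, dotProduct, dotProduct]
    exact Equiv.sum_comp (H5.C7.eI i).symm (fun p => (star v) p * v p)
  intro d hd
  obtain ⟨y, hy, e⟩ := H5.C7.inM_slotM.1 (centre_all_of_full (slotM i M) hiso A.ns A.three hfull u huu d hd)
  refine ⟨y, hy, (rI i).injective (e.trans ?_)⟩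
  rw [map_add, map_one, map_smul]
  rfl

end Amb

end Cfsg.Agent.H58.Wreath.SU
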